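import Cfsg.Agent.RuLattice.Images.Defs
import Cfsg.Agent.RuLattice.AllRange

/-!
Kernel check of the images under letter 0, half 1, in pieces to bound the memory of each.
-/

set_option autoImplicit false
set_option maxRecDepth 100000
set_option Elab.async false

namespace Cfsg.Agent.RuLattice

open Cfsg.Agent.CosetEnum

theorem images0_1_piece0 :
    allRange (imageOK qPack0 qSum0 0) 2030 290 = true := by decide +kernel

theorem images0_1_piece1 :
    allRange (imageOK qPack0 qSum0 0) 2320 290 = true := by decide +kernel

theorem images0_1_piece2 :
    allRange (imageOK qPack0 qSum0 0) 2610 290 = true := by decide +kernel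

theorem images0_1_piece3 :
    allRange (imageOK qPack0 qSum0 0) 2900 290 = true := by decide +kernel

theorem images0_1_piece4 :
    allRange (imageOK qPack0 qSum0 0) 3190 290 = true := by decide +kernel

theorem images0_1_piece5 :
    allRange (imageOK qPack0 qSum0 0) 3480 290 = true := by decide +kernel

theorem images0_1_piece6 :
    allRange (imageOK qPack0 qSum0 0) 3770 290 = true := by decide +kernel

theorem images0_1 : allRange (imageOK qPack0 qSum0 0) 2030 (290 + 290 + 290 + 290 + 290 + 290 + 290) = true :=
  allRange_seven images0_1_piece0 images0_1_piece1 images0_1_piece2 images0_1_piece3 images0_1_piece4 images0_1_piece5 images0_1_piece6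

end Cfsg.Agent.RuLattice
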