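import Cfsg.Agent.RuLattice.Images.Defs
import Cfsg.Agent.RuLattice.AllRange

/-!
Kernel check of the images under letter 2, half 0, in pieces to bound the memory of each.
-/

set_option autoImplicit false
set_option maxRecDepth 100000
set_option Elab.async false

namespace Cfsg.Agent.RuLattice

open Cfsg.Agent.CosetEnum

theorem images2_0_piece0 :
    allRange (imageOK qPack2 qSum2 2) 0 290 = true := by decide +kernel

theorem images2_0_piece1 :
    allRange (imageOK qPack2 qSum2 2) 290 290 = true := by decide +kernel

theorem images2_0_piece2 :
    allRange (imageOK qPack2 qSum2 2) 580 290 = true := by decide +kernel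

theorem images2_0_piece3 :
    allRange (imageOK qPack2 qSum2 2) 870 290 = true := by decide +kernel

theorem images2_0_piece4 :
    allRange (imageOK qPack2 qSum2 2) 1160 290 = true := by decide +kernel

theorem images2_0_piece5 :
    allRange (imageOK qPack2 qSum2 2) 1450 290 = true := by decide +kernel

theorem images2_0_piece6 :
    allRange (imageOK qPack2 qSum2 2) 1740 290 = true := by decide +kernel

theorem images2_0 : allRange (imageOK qPack2 qSum2 2) 0 (290 + 290 + 290 + 290 + 290 + 290 + 290) = true :=
  allRange_seven images2_0_piece0 images2_0_piece1 images2_0_piece2 images2_0_piece3 images2_0_piece4 images2_0_piece5 images2_0_piece6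

end Cfsg.Agent.RuLattice
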