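import Cfsg.Agent.RuLattice.Line
import Cfsg.Agent.RuLattice.LiftData
import Cfsg.Agent.SporB.Ru.Basic

/-!
The images of the tabulated vectors under the two matrices, checked in a packed form.
-/

set_option autoImplicit false
set_option maxRecDepth 100000

namespace Cfsg.Agent.RuLattice

open Cfsg.Agent.CosetEnum

/-- Digits in base `2 ^ 15`, lowest first. -/
def pkF : ℕ → (ℕ → ℕ) → ℕ
  | 0, _ => 0
  | n + 1, f => f 0 + 32768 * pkF n fun t => f (t + 1)

theorem pkF_congr : ∀ (n : ℕ) (f g : ℕ → ℕ), (∀ t < n, f t = g t) → pkF n f = pkF n g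
  | 0, _, _, _ => rfl
  | n + 1, f, g, h => by
    simp only [pkF]
    rw [h 0 (Nat.succ_pos n), pkF_congr n _ (fun t => g (t + 1)) fun t ht => h (t + 1) (Nat.succ_lt_succ ht)]

theorem pkF_add : ∀ (n : ℕ) (f g : ℕ → ℕ), pkF n f + pkF n g = pkF n fun t => f t + g t
  | 0, _, _ => rfl
  | n + 1, f, g => by simp only [pkF, ← pkF_add n]; ring

theorem pkF_mul : ∀ (n a : ℕ) (f : ℕ → ℕ), a * pkF n f = pkF n fun t => a * f t
  | 0, _, _ => rfl
  | n + 1, a, f => by simp only [pkF, ← pkF_mul n]; ring

theorem pkF_inj : ∀ (n : ℕ) (f g : ℕ → ℕ), (∀ t < n, f t < 32768) → (∀ t < n, g t < 32768) →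
    pkF n f = pkF n g → ∀ t < n, f t = g t
  | 0, _, _, _, _, _ => fun t ht => absurd ht (Nat.not_lt_zero t)
  | n + 1, f, g, hf, hg, h => by
    simp only [pkF] at h
    have h0 := hf 0 (Nat.succ_pos n)
    have h0' := hg 0 (Nat.succ_pos n)
    intro t ht
    cases t with
    | zero => omega
    | succ t =>
      exact pkF_inj n (fun t => f (t + 1)) (fun t => g (t + 1))
        (fun t ht => hf (t + 1) (Nat.succ_lt_succ ht)) (fun t ht => hg (t + 1) (Nat.succ_lt_succ ht))
        (by omega) t (Nat.lt_of_succ_lt_succ ht)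

/-- The combination of packed rows by the digits of a packed vector. -/
noncomputable def combP (N : ℕ) (P : List ℕ) : ℕ → ℕ :=
  List.rec (motive := fun _ => ℕ → ℕ) (fun _ => 0)
    (fun q _ ih k => forceNat (ih (Nat.succ k)) fun r => nib N k * q + r) P

/-- The sum of the digits of a packed vector. -/
noncomputable def digitSum (N : ℕ) : ℕ :=
  Nat.rec (motive := fun _ => ℕ) 0 (fun k ih => forceNat ih fun r => nib N k + r) 56

/-- The packing expected for four times a unit times a packed vector. -/
noncomputable def targetP (M e S : ℕ) (C : List ℕ) : ℕ → ℕ :=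
  List.rec (motive := fun _ => ℕ → ℕ) (fun _ => 0)
    (fun c _ ih k => forceNat (ih (Nat.succ k)) fun r => 4 * unitN M e k + 8 * S + 8 * c + 32768 * r) C

/-- The unit of a point under a letter. -/
def phase (l i : ℕ) : ℕ :=
  (bif Nat.beq l 0 then SporB.Ru.LineData.phase0 else SporB.Ru.LineData.phase2) >>> (2 * i) &&& 3

/-- Ones in every digit. -/
def onesP : ℕ := pkF 56 fun _ => 1

/-- The image of a point's vector is a unit times the vector of its image. -/
noncomputable def imageOK (P C : List ℕ) (l i : ℕ) : Bool :=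
  forceNat (lineN i) fun N => forceNat (SporB.Ru.act i l) fun j => forceNat (lineN j) fun M =>
    forceNat (phase l i) fun e => forceNat (digitSum N) fun S =>
      Nat.beq (combP N P 0 + 3616 * onesP) (targetP M e S C 0)

/-- The packed rows agree with the matrix. -/
def packOK (P C L : List ℕ) : Prop :=
  P.length = 56 ∧ C.length = 56 ∧ (∀ k : Fin 56, P.getD k.val 0 = pkF 56 fun j => nib (L.getD k.val 0) j) ∧
    ∀ j : Fin 56, C.getD j.val 0 = ∑ k : Fin 56, nib (L.getD k.val 0) j.val

theorem pack0 : packOK qPack0 qSum0 qRows0 := by unfold packOK; decide +kernel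

theorem pack2 : packOK qPack2 qSum2 qRows2 := by unfold packOK; decide +kernel

end Cfsg.Agent.RuLattice
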